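import Groth.Agent.Fano.K573.EllAlg

/-!
# The ideal of a curve of class `2H - F` on the rational normal scroll `S(2, 1)`, part 2

`mem_ideal`: the forms vanishing at `(y, τ y, τ² y, w, τ w)` are in the ideal generated by five quadrics.
-/

set_option autoImplicit false
universe u v

namespace K573.EllAlg

open MvPolynomial K573.ScrollAlg

variable {k : Type u} [Field k]

theorem tu_eq (e j : ℕ) : tu k e j = X 0 ^ e * X 1 ^ j := by
  have h0 : (X 0 : MvPolynomial (Fin 2) k) = tu k 1 0 := by simp [tu, mm, X]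
  have h1 : (X 1 : MvPolynomial (Fin 2) k) = tu k 0 1 := by simp [tu, mm, X]
  rw [h0, h1, tu_pow, tu_pow, tu_mul]
  congr 1 <;> ring

theorem coeff_C_mul_tu (a : k) (e j e' j' : ℕ) :
    coeff (mm e j) (C a * tu k e' j') = if e' = e ∧ j' = j then a else 0 := by
  classical
  rw [tu, C_mul_monomial, coeff_monomial, mul_one]
  by_cases h : e' = e ∧ j' = j
  · rw [if_pos h, h.1, h.2, if_pos rfl]
  · rw [if_neg h, if_neg fun h2 => h (mm_inj h2)]

/-- the equation in `k[T, U]` -/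
noncomputable def G (A₃ A₂ A₁ : Polynomial k) : MvPolynomial (Fin 2) k :=
  C (A₃.coeff 0) * tu k 0 0 + C (A₃.coeff 1) * tu k 1 0 + C (A₃.coeff 2) * tu k 2 0 + C (A₃.coeff 3) * tu k 3 0 +
    C (A₂.coeff 0) * tu k 0 1 + C (A₂.coeff 1) * tu k 1 1 + C (A₂.coeff 2) * tu k 2 1 +
    C (A₁.coeff 0) * tu k 0 2 + C (A₁.coeff 1) * tu k 1 2

variable {A₃ A₂ A₁ : Polynomial k}

theorem equiv_eqn (hd3 : A₃.natDegree ≤ 3) (hd2 : A₂.natDegree ≤ 2) (hd1 : A₁.natDegree ≤ 1) :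
    Polynomial.Bivariate.equivMvPolynomial k (eqn A₃ A₂ A₁) = G A₃ A₂ A₁ := by
  have key : ∀ (n : ℕ) (A : Polynomial k), A.natDegree < n →
      Polynomial.Bivariate.equivMvPolynomial k (Polynomial.C A) =
        ∑ i ∈ Finset.range n, C (A.coeff i) * tu k i 0 := by
    intro n A hA
    conv_lhs => rw [A.as_sum_range_C_mul_X_pow' hA]
    rw [map_sum, map_sum]
    refine Finset.sum_congr rfl fun i _ => ?_
    rw [map_mul, map_mul, map_pow, map_pow, Polynomial.Bivariate.equivMvPolynomial_C_C,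
      Polynomial.Bivariate.equivMvPolynomial_C_X, tu_eq, pow_zero, mul_one]
  rw [eqn, map_add, map_add, map_mul, map_mul, map_pow, Polynomial.Bivariate.equivMvPolynomial_X,
    key 4 A₃ (by omega), key 3 A₂ (by omega), key 2 A₁ (by omega), G]
  simp only [Finset.sum_range_succ, Finset.sum_range_zero, tu_eq]
  ring

variable {K : Type v} [Field K] [Algebra k K] {τ y w : K}

theorem eval_equiv (u : K) (P : Polynomial (Polynomial k)) :
    aeval ![τ, u] (Polynomial.Bivariate.equivMvPolynomial k P) =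
      P.eval₂ (Polynomial.aeval τ : Polynomial k →ₐ[k] K).toRingHom u := by
  have h : ((aeval ![τ, u] : MvPolynomial (Fin 2) k →ₐ[k] K).toRingHom.comp
      (Polynomial.Bivariate.equivMvPolynomial k).toAlgHom.toRingHom) =
      Polynomial.eval₂RingHom (Polynomial.aeval τ : Polynomial k →ₐ[k] K).toRingHom u := by
    refine Polynomial.ringHom_ext' (Polynomial.ringHom_ext' (RingHom.ext fun a => ?_) ?_) ?_
    · simp
    · simp
    · simp
  exact congr($h P)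

theorem G_dvd (h : Indep (k := k) τ y w) (hnr : NoRel (k := k) τ y w)
    (hd3 : A₃.natDegree ≤ 3) (hd2 : A₂.natDegree ≤ 2) (hd1 : A₁.natDegree ≤ 1)
    (hne : A₃ ≠ 0 ∨ A₂ ≠ 0 ∨ A₁ ≠ 0)
    (hrel : y ^ 2 * Polynomial.aeval τ A₃ + y * w * Polynomial.aeval τ A₂ + w ^ 2 * Polynomial.aeval τ A₁ = 0)
    (P : MvPolynomial (Fin 2) k) (hP : aeval ![τ, w / y] P = 0) : G A₃ A₂ A₁ ∣ P := by
  obtain ⟨P, rfl⟩ := (Polynomial.Bivariate.equivMvPolynomial k).surjective P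
  rw [eval_equiv] at hP
  rw [← equiv_eqn hd3 hd2 hd1]
  exact map_dvd _ (dvd_of_eval h hnr hd3 hd2 hd1 hne hrel P hP)

theorem coeff_G (e j : ℕ) : coeff (mm e j) (G A₃ A₂ A₁) =
    (if 0 = e ∧ 0 = j then A₃.coeff 0 else 0) + (if 1 = e ∧ 0 = j then A₃.coeff 1 else 0) +
    (if 2 = e ∧ 0 = j then A₃.coeff 2 else 0) + (if 3 = e ∧ 0 = j then A₃.coeff 3 else 0) +
    (if 0 = e ∧ 1 = j then A₂.coeff 0 else 0) + (if 1 = e ∧ 1 = j then A₂.coeff 1 else 0) +
    (if 2 = e ∧ 1 = j then A₂.coeff 2 else 0) +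
    (if 0 = e ∧ 2 = j then A₁.coeff 0 else 0) + (if 1 = e ∧ 2 = j then A₁.coeff 1 else 0) := by
  rw [G]
  simp only [coeff_add, coeff_C_mul_tu]

theorem le_totalDegree_G (hnr : NoRel (k := k) τ y w)
    (hd3 : A₃.natDegree ≤ 3) (hd2 : A₂.natDegree ≤ 2) (hd1 : A₁.natDegree ≤ 1)
    (hne : A₃ ≠ 0 ∨ A₂ ≠ 0 ∨ A₁ ≠ 0)
    (hrel : y ^ 2 * Polynomial.aeval τ A₃ + y * w * Polynomial.aeval τ A₂ + w ^ 2 * Polynomial.aeval τ A₁ = 0) :
    3 ≤ (G A₃ A₂ A₁).totalDegree := by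
  have key : ∀ e j : ℕ, e + j = 3 → coeff (mm e j) (G A₃ A₂ A₁) ≠ 0 → 3 ≤ (G A₃ A₂ A₁).totalDegree := by
    intro e j hej hc
    have h1 := le_totalDegree (mem_support_iff.2 hc)
    rw [Finsupp.sum_fintype _ _ (by simp), Fin.sum_univ_two, mm_zero, mm_one, hej] at h1
    exact h1
  have low : ∀ {A : Polynomial k} {n : ℕ}, A.natDegree ≤ n + 1 → A.coeff (n + 1) = 0 → A.natDegree ≤ n := by
    intro A n h1 h2
    by_contra h3
    have h4 : A.natDegree = n + 1 := by omega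
    rw [← h4, Polynomial.coeff_natDegree, Polynomial.leadingCoeff_eq_zero] at h2
    rw [h2, Polynomial.natDegree_zero] at h4
    omega
  by_cases c3 : A₃.coeff 3 = 0
  · by_cases c2 : A₂.coeff 2 = 0
    · by_cases c1 : A₁.coeff 1 = 0
      · obtain ⟨rfl, rfl, rfl⟩ := hnr _ _ _ (low hd3 c3) (low hd2 c2) (low hd1 c1) hrel
        simp at hne
      · refine key 1 2 rfl ?_
        rw [coeff_G]
        simpa using c1
    · refine key 2 1 rfl ?_
      rw [coeff_G]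
      simpa using c2
  · refine key 3 0 rfl ?_
    rw [coeff_G]
    simpa using c3

theorem le_degreeOf_G (hA : A₁ ≠ 0) (hd1 : A₁.natDegree ≤ 1) : 2 ≤ degreeOf 1 (G A₃ A₂ A₁) := by
  have key : ∀ e : ℕ, coeff (mm e 2) (G A₃ A₂ A₁) ≠ 0 → 2 ≤ degreeOf 1 (G A₃ A₂ A₁) := by
    intro e hc
    have h1 := monomial_le_degreeOf 1 (mem_support_iff.2 hc)
    rwa [mm_one] at h1
  by_cases c1 : A₁.coeff 1 = 0
  · refine key 0 ?_
    rw [coeff_G]
    have c0 : A₁.coeff 0 ≠ 0 := by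
      intro c0
      apply hA
      rw [Polynomial.eq_X_add_C_of_natDegree_le_one hd1, c1, c0]
      simp
    simpa using c0
  · refine key 1 ?_
    rw [coeff_G]
    simpa using c1

/-! ## The five quadrics -/

variable (A₃ A₂ A₁)

/-- the three linear forms -/
noncomputable def fa {R : Type*} [CommRing R] [Algebra k R] (x : Fin 5 → R) : R :=
  A₃.coeff 0 • x 0 + A₃.coeff 1 • x 1 + A₃.coeff 2 • x 2 + A₂.coeff 0 • x 3 + A₂.coeff 1 • x 4

/-- the three linear forms -/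
noncomputable def fb {R : Type*} [CommRing R] [Algebra k R] (x : Fin 5 → R) : R :=
  A₃.coeff 3 • x 2 + A₂.coeff 2 • x 4

/-- the three linear forms -/
noncomputable def fc {R : Type*} [CommRing R] [Algebra k R] (x : Fin 5 → R) : R :=
  A₁.coeff 0 • x 3 + A₁.coeff 1 • x 4

/-- the quadric `s G` -/
noncomputable def q1 {R : Type*} [CommRing R] [Algebra k R] (x : Fin 5 → R) : R :=
  fa A₃ A₂ x * x 0 + fb A₃ A₂ x * x 1 + fc A₁ x * x 3

/-- the quadric `t G` -/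
noncomputable def q2 {R : Type*} [CommRing R] [Algebra k R] (x : Fin 5 → R) : R :=
  fa A₃ A₂ x * x 1 + fb A₃ A₂ x * x 2 + fc A₁ x * x 4

theorem q1_pt : q1 A₃ A₂ A₁ (pt k) = G A₃ A₂ A₁ := by
  have e0 : pt k 0 = tu k 0 0 := rfl
  have e1 : pt k 1 = tu k 1 0 := rfl
  have e2 : pt k 2 = tu k 2 0 := rfl
  have e3 : pt k 3 = tu k 0 1 := rfl
  have e4 : pt k 4 = tu k 1 1 := rfl
  simp only [q1, fa, fb, fc, G, e0, e1, e2, e3, e4, tu_eq, smul_eq_C_mul]
  ring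

theorem q2_pt : q2 A₃ A₂ A₁ (pt k) = G A₃ A₂ A₁ * tu k 1 0 := by
  have e0 : pt k 0 = tu k 0 0 := rfl
  have e1 : pt k 1 = tu k 1 0 := rfl
  have e2 : pt k 2 = tu k 2 0 := rfl
  have e3 : pt k 3 = tu k 0 1 := rfl
  have e4 : pt k 4 = tu k 1 1 := rfl
  simp only [q2, fa, fb, fc, G, e0, e1, e2, e3, e4, tu_eq, smul_eq_C_mul]
  ring

variable {R S : Type*} [CommRing R] [Algebra k R] [CommRing S] [Algebra k S] (φ : R →ₐ[k] S) (x : Fin 5 → R)

theorem map_fa : φ (fa A₃ A₂ x) = fa A₃ A₂ (fun i => φ (x i)) := by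
  simp only [fa, map_add, map_smul]

theorem map_fb : φ (fb A₃ A₂ x) = fb A₃ A₂ (fun i => φ (x i)) := by
  simp only [fb, map_add, map_smul]

theorem map_fc : φ (fc A₁ x) = fc A₁ (fun i => φ (x i)) := by
  simp only [fc, map_add, map_smul]

theorem map_q1 : φ (q1 A₃ A₂ A₁ x) = q1 A₃ A₂ A₁ (fun i => φ (x i)) := by
  simp only [q1, map_add, map_mul, map_fa, map_fb, map_fc]

theorem map_q2 : φ (q2 A₃ A₂ A₁ x) = q2 A₃ A₂ A₁ (fun i => φ (x i)) := by
  simp only [q2, map_add, map_mul, map_fa, map_fb, map_fc]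

theorem map_mo (a0 a1 a2 a3 a4 : ℕ) : φ (mo x a0 a1 a2 a3 a4) = mo (fun i => φ (x i)) a0 a1 a2 a3 a4 := by
  simp only [mo, map_mul, map_pow]

theorem hom_fa : (fa A₃ A₂ (X : Fin 5 → MvPolynomial (Fin 5) k)).IsHomogeneous 1 := by
  have h : ∀ (c : k) (i : Fin 5), (c • X i : MvPolynomial (Fin 5) k).IsHomogeneous 1 := fun c i => by
    rw [smul_eq_C_mul]; exact (isHomogeneous_X k i).C_mul c
  exact ((((h _ _).add (h _ _)).add (h _ _)).add (h _ _)).add (h _ _)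

theorem hom_fb : (fb A₃ A₂ (X : Fin 5 → MvPolynomial (Fin 5) k)).IsHomogeneous 1 := by
  have h : ∀ (c : k) (i : Fin 5), (c • X i : MvPolynomial (Fin 5) k).IsHomogeneous 1 := fun c i => by
    rw [smul_eq_C_mul]; exact (isHomogeneous_X k i).C_mul c
  exact (h _ _).add (h _ _)

theorem hom_fc : (fc A₁ (X : Fin 5 → MvPolynomial (Fin 5) k)).IsHomogeneous 1 := by
  have h : ∀ (c : k) (i : Fin 5), (c • X i : MvPolynomial (Fin 5) k).IsHomogeneous 1 := fun c i => by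
    rw [smul_eq_C_mul]; exact (isHomogeneous_X k i).C_mul c
  exact (h _ _).add (h _ _)

theorem hom_q1 : (q1 A₃ A₂ A₁ (X : Fin 5 → MvPolynomial (Fin 5) k)).IsHomogeneous 2 :=
  (((hom_fa A₃ A₂).mul (isHomogeneous_X k 0)).add ((hom_fb A₃ A₂).mul (isHomogeneous_X k 1))).add
    ((hom_fc A₁).mul (isHomogeneous_X k 3))

theorem hom_q2 : (q2 A₃ A₂ A₁ (X : Fin 5 → MvPolynomial (Fin 5) k)).IsHomogeneous 2 :=
  (((hom_fa A₃ A₂).mul (isHomogeneous_X k 1)).add ((hom_fb A₃ A₂).mul (isHomogeneous_X k 2))).add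
    ((hom_fc A₁).mul (isHomogeneous_X k 4))

theorem hom_mo (a0 a1 a2 a3 a4 : ℕ) : (mo (X : Fin 5 → MvPolynomial (Fin 5) k) a0 a1 a2 a3 a4).IsHomogeneous
    (a0 + a1 + a2 + a3 + a4) := by
  have h : ∀ (i : Fin 5) (n : ℕ), (X i ^ n : MvPolynomial (Fin 5) k).IsHomogeneous n := fun i n => by
    have := (isHomogeneous_X k i).pow n
    rwa [one_mul] at this
  exact ((((h _ _).mul (h _ _)).mul (h _ _)).mul (h _ _)).mul (h _ _)

theorem exists_mono (D e j : ℕ) (hj : j ≤ D) (he : e + j ≤ 2 * D) : ∃ m : MvPolynomial (Fin 5) k,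
    m.IsHomogeneous D ∧ aeval (pt k) m = tu k e j := by
  have key : ∃ a0 a1 a2 a3 a4 : ℕ, a0 + a1 + a2 + a3 + a4 = D ∧ a1 + 2 * a2 + a4 = e ∧ a3 + a4 = j := by
    by_cases h : e ≤ 2 * (D - j)
    · rcases Nat.even_or_odd' e with ⟨b, hb | hb⟩
      · exact ⟨D - j - b, 0, b, j, 0, by omega, by omega, by omega⟩
      · exact ⟨D - j - b - 1, 1, b, j, 0, by omega, by omega, by omega⟩
    · exact ⟨0, 0, D - j, j - (e - 2 * (D - j)), e - 2 * (D - j), by omega, by omega, by omega⟩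
  obtain ⟨a0, a1, a2, a3, a4, h1, h2, h3⟩ := key
  refine ⟨mo X a0 a1 a2 a3 a4, h1 ▸ hom_mo a0 a1 a2 a3 a4, ?_⟩
  rw [map_mo]
  simp only [aeval_X]
  rw [mo_pt, h2, h3]

variable {A₃ A₂ A₁}

/-- evaluation at `(y, τ y, τ² y, w, τ w)` -/
theorem aeval_eta (hy : y ≠ 0) {d : ℕ} {F : MvPolynomial (Fin 5) k} (hF : F.IsHomogeneous d) :
    aeval ![y, τ * y, τ ^ 2 * y, w, τ * w] F = y ^ d * aeval ![τ, w / y] (aeval (pt k) F) := by
  have hu : w = w / y * y := by field_simp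
  conv_lhs => rw [F.as_sum]
  conv_rhs => rw [F.as_sum]
  rw [map_sum, map_sum, map_sum, Finset.mul_sum]
  refine Finset.sum_congr rfl fun a ha => ?_
  have hd := degree_eq hF ha
  rw [aeval_monomial', aeval_monomial', map_smul, mo_pt, tu_eq, map_mul, map_pow, map_pow, aeval_X, aeval_X,
    mul_smul_comm, ← hd]
  congr 1
  change y ^ a 0 * (τ * y) ^ a 1 * (τ ^ 2 * y) ^ a 2 * w ^ a 3 * (τ * w) ^ a 4 = y ^ (a 0 + a 1 + a 2 + a 3 + a 4) *
    (τ ^ (a 1 + 2 * a 2 + a 4) * (w / y) ^ (a 3 + a 4))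
  generalize w / y = u at hu
  rw [hu]
  ring

theorem mem_ideal (h : Indep (k := k) τ y w) (hnr : NoRel (k := k) τ y w)
    (hd3 : A₃.natDegree ≤ 3) (hd2 : A₂.natDegree ≤ 2) (hd1 : A₁.natDegree ≤ 1)
    (hne : A₃ ≠ 0 ∨ A₂ ≠ 0 ∨ A₁ ≠ 0)
    (hrel : y ^ 2 * Polynomial.aeval τ A₃ + y * w * Polynomial.aeval τ A₂ + w ^ 2 * Polynomial.aeval τ A₁ = 0)
    (J : Ideal (MvPolynomial (Fin 5) k)) (hm1 : X 0 * X 2 - X 1 ^ 2 ∈ J) (hm2 : X 0 * X 4 - X 1 * X 3 ∈ J)
    (hm3 : X 1 * X 4 - X 2 * X 3 ∈ J) (hq1 : q1 A₃ A₂ A₁ (X : Fin 5 → MvPolynomial (Fin 5) k) ∈ J)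
    (hq2 : q2 A₃ A₂ A₁ (X : Fin 5 → MvPolynomial (Fin 5) k) ∈ J) {d : ℕ} {F : MvPolynomial (Fin 5) k}
    (hF : F.IsHomogeneous d) (h0 : aeval ![y, τ * y, τ ^ 2 * y, w, τ * w] F = 0) : F ∈ J := by
  classical
  rw [aeval_eta h.y_ne hF] at h0
  replace h0 := (mul_eq_zero.1 h0).resolve_left (pow_ne_zero _ h.y_ne)
  obtain ⟨Q, hQ⟩ := G_dvd h hnr hd3 hd2 hd1 hne hrel _ h0
  have hGd := le_totalDegree_G hnr hd3 hd2 hd1 hne hrel
  have hGu := le_degreeOf_G (A₃ := A₃) (A₂ := A₂) (A₁_ne h hne hrel) hd1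
  have hG0 : G A₃ A₂ A₁ ≠ 0 := by
    intro h0
    rw [h0, totalDegree_zero] at hGd
    omega
  -- the degrees of `P`
  have hsupp : ∀ m ∈ (aeval (pt k) F).support, m 0 + m 1 ≤ 2 * d ∧ m 1 ≤ d := by
    intro m hm
    rw [F.as_sum, map_sum, mem_support_iff, coeff_sum] at hm
    obtain ⟨a, ha, hc⟩ := Finset.exists_ne_zero_of_sum_ne_zero hm
    rw [aeval_monomial', mo_pt, coeff_smul, tu, coeff_monomial] at hc
    have hma : mm (a 1 + 2 * a 2 + a 4) (a 3 + a 4) = m := by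
      by_contra hne
      rw [if_neg hne, smul_zero] at hc
      exact hc rfl
    have hd := degree_eq hF ha
    rw [← hma, mm_zero, mm_one]
    omega
  have hQd : ∀ m ∈ Q.support, m 0 + m 1 + 3 ≤ 2 * d ∧ m 1 + 2 ≤ d := by
    intro m hm
    have hQ0 : Q ≠ 0 := by
      rintro rfl
      simp at hm
    have e1 : (aeval (pt k) F).totalDegree = (G A₃ A₂ A₁).totalDegree + Q.totalDegree := by
      rw [hQ, totalDegree_mul_of_isDomain hG0 hQ0]
    have e2 : degreeOf 1 (aeval (pt k) F) = degreeOf 1 (G A₃ A₂ A₁) + degreeOf 1 Q := by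
      rw [hQ, degreeOf_mul_eq hG0 hQ0]
    have e3 : (aeval (pt k) F).totalDegree ≤ 2 * d := by
      refine Finset.sup_le fun m hm => ?_
      rw [Finsupp.sum_fintype _ _ (by simp), Fin.sum_univ_two]
      exact (hsupp m hm).1
    have e4 : degreeOf 1 (aeval (pt k) F) ≤ d := by
      rw [degreeOf_le_iff]
      exact fun m hm => (hsupp m hm).2
    have e5 := le_totalDegree hm
    rw [Finsupp.sum_fintype _ _ (by simp), Fin.sum_univ_two] at e5
    have e6 := monomial_le_degreeOf 1 hm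
    omega
  have hpc : ∀ m ∈ Q.support, ∃ p : MvPolynomial (Fin 5) k, p.IsHomogeneous d ∧ p ∈ J ∧
      aeval (pt k) p = G A₃ A₂ A₁ * monomial m 1 := by
    intro m hm
    obtain ⟨f1, f2⟩ := hQd m hm
    obtain ⟨D, rfl⟩ := Nat.exists_eq_add_of_le' (show 2 ≤ d by omega)
    have hmm : (monomial m 1 : MvPolynomial (Fin 2) k) = tu k (m 0) (m 1) := by
      rw [tu, ← eq_mm]
    by_cases c : m 0 + m 1 ≤ 2 * D
    · obtain ⟨p, hp1, hp2⟩ := exists_mono (k := k) D (m 0) (m 1) (by omega) c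
      refine ⟨p * q1 A₃ A₂ A₁ X, hp1.mul (hom_q1 A₃ A₂ A₁), J.mul_mem_left _ hq1, ?_⟩
      rw [map_mul, hp2, map_q1]
      simp only [aeval_X]
      rw [q1_pt, hmm, mul_comm]
    · obtain ⟨p, hp1, hp2⟩ := exists_mono (k := k) D (m 0 - 1) (m 1) (by omega) (by omega)
      refine ⟨p * q2 A₃ A₂ A₁ X, hp1.mul (hom_q2 A₃ A₂ A₁), J.mul_mem_left _ hq2, ?_⟩
      rw [map_mul, hp2, map_q2]
      simp only [aeval_X]
      have h1 : 1 + (m 0 - 1) = m 0 := by omega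
      rw [q2_pt, hmm, mul_comm, mul_assoc, tu_mul, h1, zero_add]
  choose! p hp1 hp2 hp3 using hpc
  let F2 : MvPolynomial (Fin 5) k := ∑ m ∈ Q.support, coeff m Q • p m
  have hF2 : F2.IsHomogeneous d := by
    refine IsHomogeneous.sum _ _ _ fun m hm => ?_
    rw [smul_eq_C_mul]
    exact (hp1 m hm).C_mul _
  have hF2J : F2 ∈ J := by
    refine Ideal.sum_mem _ fun m hm => ?_
    rw [smul_eq_C_mul]
    exact J.mul_mem_left _ (hp2 m hm)
  have hF2e : aeval (pt k) F2 = aeval (pt k) F := by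
    rw [hQ, map_sum]
    conv_rhs => rw [Q.as_sum, Finset.mul_sum]
    refine Finset.sum_congr rfl fun m hm => ?_
    rw [map_smul, hp3 m hm, ← mul_smul_comm, smul_monomial, smul_eq_mul, mul_one]
  have hz : aeval (fun i => Ideal.Quotient.mk J (X i)) (F - F2) = 0 := by
    have e : ∀ a b : MvPolynomial (Fin 5) k, a - b ∈ J → Ideal.Quotient.mk J a = Ideal.Quotient.mk J b :=
      fun a b => (Ideal.Quotient.eq).2
    refine aeval_eq_zero _ ?_ ?_ ?_ (hF.sub hF2) ?_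
    · have := e _ _ hm1
      simpa using this
    · have := e _ _ hm2
      simpa using this
    · have := e _ _ hm3
      simpa using this
    · rw [map_sub, hF2e, sub_self]
  have hz2 : (F - F2) ∈ J := by
    rw [← Ideal.Quotient.eq_zero_iff_mem, ← hz]
    have : (Ideal.Quotient.mkₐ k J) = aeval (fun i => Ideal.Quotient.mk J (X i)) := by
      ext i
      simp
    exact congr($this (F - F2))
  have := J.add_mem hz2 hF2J
  rwa [sub_add_cancel] at this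

end K573.EllAlg
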