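import Groth.Agent.Fano.K573.KerFam
import Groth.Agent.Fano.K573.EllIdeal
import Groth.Agent.Fano.K255.PfDef
import Groth.Agent.Fano.K113.QuintRed

/-!
# The Pfaffian matrix of an elliptic normal quintic on a cubic threefold (G1b of S16528)

`exists_PP_of_coords`: a curve in `P^4` with coordinates in the span of `y, τ y, τ² y, w, τ w` satisfying a relation
`A₃(τ) y² + A₂(τ) y w + A₁(τ) w² = 0` of minimal degrees `(3, 2, 1)` is the Pfaffian curve of a Pfaffian representation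
of the cubic form.
-/

set_option autoImplicit false
universe u v
open CategoryTheory CategoryTheory.Limits AlgebraicGeometry TopologicalSpace Opposite

namespace K573.PPCoords

open Groth.Agent.Fano.K714.Rat Groth.Agent.Fano.K714.Quart Groth.Agent.Fano.K715.Quint K255.Pf
open K573.EllAlg K573.KerFam MvPolynomial

variable {k : Type u} [Field k]

/-! ## The matrix -/

section Mat

variable {V : Type v} [AddCommGroup V]

/-- the skew matrix -/
def MM (l : Fin 5 → V) (a b c : V) (m : Fin 5 → V) : Fin 6 → Fin 6 → V :=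
  ![![0, 0, l 0, l 1, l 3, m 0], ![0, 0, l 1, l 2, l 4, m 1], ![- l 0, - l 1, 0, c, - b, m 2],
    ![- l 1, - l 2, - c, 0, a, m 3], ![- l 3, - l 4, b, - a, 0, m 4], ![- m 0, - m 1, - m 2, - m 3, - m 4, 0]]

theorem MM_skew (l : Fin 5 → V) (a b c : V) (m : Fin 5 → V) (i j : Fin 6) : MM l a b c m i j = - MM l a b c m j i := by
  fin_cases i <;> fin_cases j <;> simp [MM]

end Mat

theorem lin_neg (v : Fin 5 → k) : (lin (-v)).1 = - (lin v).1 := by
  simp [lin, neg_smul]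

theorem lin_zero : (lin (0 : Fin 5 → k)).1 = 0 := by
  simp [lin]

theorem lin_add (v v' : Fin 5 → k) : (lin (v + v')).1 = (lin v).1 + (lin v').1 := by
  simp [lin, add_smul, Finset.sum_add_distrib]

theorem lin_smul (c : k) (v : Fin 5 → k) : (lin (c • v)).1 = c • (lin v).1 := by
  simp [lin, mul_smul, Finset.smul_sum]

theorem lin_sum {ι : Type*} (s : Finset ι) (v : ι → Fin 5 → k) : (lin (∑ j ∈ s, v j)).1 = ∑ j ∈ s, (lin (v j)).1 := by
  classical
  induction s using Finset.induction_on with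
  | empty => simp [lin_zero]
  | insert a s ha ih => rw [Finset.sum_insert ha, Finset.sum_insert ha, lin_add, ih]

theorem lin_single (j : Fin 5) : (lin (Pi.single j (1 : k))).1 = X j := by
  simp [lin, Pi.single_apply]

theorem aeval_lin {R : Type*} [CommRing R] [Algebra k R] (ξ : Fin 5 → R) (v : Fin 5 → k) :
    aeval ξ (lin v).1 = ∑ i, v i • ξ i := by
  simp [lin]

variable (l : Fin 5 → Fin 5 → k) (a b c : Fin 5 → k) (m : Fin 5 → Fin 5 → k)

theorem q0_val : (qE (MM l a b c m) 0).1 =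
    (lin a).1 * (lin (l 1)).1 + (lin b).1 * (lin (l 2)).1 + (lin c).1 * (lin (l 4)).1 := by
  change (lin (l 1)).1 * (lin a).1 - (lin (l 2)).1 * (lin (-b)).1 + (lin (l 4)).1 * (lin c).1 = _
  rw [lin_neg]
  ring

theorem q1_val : (qE (MM l a b c m) 1).1 =
    (lin a).1 * (lin (l 0)).1 + (lin b).1 * (lin (l 1)).1 + (lin c).1 * (lin (l 3)).1 := by
  change (lin (l 0)).1 * (lin a).1 - (lin (l 1)).1 * (lin (-b)).1 + (lin (l 3)).1 * (lin c).1 = _
  rw [lin_neg]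
  ring

theorem q2_val : (qE (MM l a b c m) 2).1 = (lin (l 2)).1 * (lin (l 3)).1 - (lin (l 1)).1 * (lin (l 4)).1 := by
  change (lin (0 : Fin 5 → k)).1 * (lin a).1 - (lin (l 1)).1 * (lin (l 4)).1 + (lin (l 3)).1 * (lin (l 2)).1 = _
  rw [lin_zero]
  ring

theorem q3_val : (qE (MM l a b c m) 3).1 = (lin (l 1)).1 * (lin (l 3)).1 - (lin (l 0)).1 * (lin (l 4)).1 := by
  change (lin (0 : Fin 5 → k)).1 * (lin (-b)).1 - (lin (l 0)).1 * (lin (l 4)).1 + (lin (l 3)).1 * (lin (l 1)).1 = _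
  rw [lin_zero]
  ring

theorem q4_val : (qE (MM l a b c m) 4).1 = (lin (l 1)).1 ^ 2 - (lin (l 0)).1 * (lin (l 2)).1 := by
  change (lin (0 : Fin 5 → k)).1 * (lin c).1 - (lin (l 0)).1 * (lin (l 2)).1 + (lin (l 1)).1 * (lin (l 1)).1 = _
  rw [lin_zero]
  ring

theorem qE_indep (m' : Fin 5 → Fin 5 → k) (j : Fin 5) : (qE (MM l a b c m) j).1 = (qE (MM l a b c m') j).1 := by
  fin_cases j
  · exact (q0_val l a b c m).trans (q0_val l a b c m').symm
  · exact (q1_val l a b c m).trans (q1_val l a b c m').symm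
  · exact (q2_val l a b c m).trans (q2_val l a b c m').symm
  · exact (q3_val l a b c m).trans (q3_val l a b c m').symm
  · exact (q4_val l a b c m).trans (q4_val l a b c m').symm

theorem pf6_val : pf6 (matE (MM l a b c m)) = (lin (m 0)).1 * (qE (MM l a b c m) 0).1 -
    (lin (m 1)).1 * (qE (MM l a b c m) 1).1 + (lin (m 2)).1 * (qE (MM l a b c m) 2).1 -
    (lin (m 3)).1 * (qE (MM l a b c m) 3).1 + (lin (m 4)).1 * (qE (MM l a b c m) 4).1 := rfl

/-! ## The coordinate change -/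

section Change

variable {K : Type v} [Field K] [Algebra k K]

/-- the coordinates `(y, τ y, τ² y, w, τ w)` -/
abbrev eta (τ y w : K) : Fin 5 → K := ![y, τ * y, τ ^ 2 * y, w, τ * w]

variable {ξ : Fin 5 → K} {τ y w : K}

theorem range_eta : Set.range (eta τ y w) = {y, τ * y, τ ^ 2 * y, w, τ * w} := by
  ext x
  simp only [Set.mem_range, Set.mem_insert_iff, Set.mem_singleton_iff]
  constructor
  · rintro ⟨i, rfl⟩
    fin_cases i <;> simp [eta]
  · rintro (rfl | rfl | rfl | rfl | rfl)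
    · exact ⟨0, rfl⟩
    · exact ⟨1, rfl⟩
    · exact ⟨2, rfl⟩
    · exact ⟨3, rfl⟩
    · exact ⟨4, rfl⟩

theorem exists_l (hsp : Submodule.span k (Set.range ξ) = Submodule.span k {y, τ * y, τ ^ 2 * y, w, τ * w}) :
    ∃ l : Fin 5 → Fin 5 → k, ∀ i, aeval ξ (lin (l i)).1 = eta τ y w i := by
  have h : ∀ i, ∃ v : Fin 5 → k, aeval ξ (lin v).1 = eta τ y w i := by
    intro i
    have h1 : eta τ y w i ∈ Submodule.span k (Set.range ξ) := by
      rw [hsp, ← range_eta]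
      exact Submodule.subset_span ⟨i, rfl⟩
    obtain ⟨v, hv⟩ := (Submodule.mem_span_range_iff_exists_fun k).1 h1
    exact ⟨v, by rw [aeval_lin, hv]⟩
  choose l hl using h
  exact ⟨l, hl⟩

theorem exists_e (hsp : Submodule.span k (Set.range ξ) = Submodule.span k {y, τ * y, τ ^ 2 * y, w, τ * w}) :
    ∃ e : Fin 5 → Fin 5 → k, ∀ j, ∑ i, e j i • eta τ y w i = ξ j := by
  have h : ∀ j, ∃ v : Fin 5 → k, ∑ i, v i • eta τ y w i = ξ j := by
    intro j
    have h1 : ξ j ∈ Submodule.span k (Set.range (eta τ y w)) := by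
      rw [range_eta, ← hsp]
      exact Submodule.subset_span ⟨j, rfl⟩
    exact (Submodule.mem_span_range_iff_exists_fun k).1 h1
  choose e he using h
  exact ⟨e, he⟩

variable {A₃ A₂ A₁ : Polynomial k}

/-- `mem_ideal` in the coordinates `ξ`. -/
theorem mem_of_aeval (hξ : LinearIndependent k ξ)
    (hsp : Submodule.span k (Set.range ξ) = Submodule.span k {y, τ * y, τ ^ 2 * y, w, τ * w})
    (h : Indep (k := k) τ y w) (hnr : NoRel (k := k) τ y w)
    (hd3 : A₃.natDegree ≤ 3) (hd2 : A₂.natDegree ≤ 2) (hd1 : A₁.natDegree ≤ 1)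
    (hne : A₃ ≠ 0 ∨ A₂ ≠ 0 ∨ A₁ ≠ 0)
    (hrel : y ^ 2 * Polynomial.aeval τ A₃ + y * w * Polynomial.aeval τ A₂ + w ^ 2 * Polynomial.aeval τ A₁ = 0)
    {l : Fin 5 → Fin 5 → k} (hl : ∀ i, aeval ξ (lin (l i)).1 = eta τ y w i)
    (J : Ideal (MvPolynomial (Fin 5) k))
    (hm1 : (lin (l 0)).1 * (lin (l 2)).1 - (lin (l 1)).1 ^ 2 ∈ J)
    (hm2 : (lin (l 0)).1 * (lin (l 4)).1 - (lin (l 1)).1 * (lin (l 3)).1 ∈ J)
    (hm3 : (lin (l 1)).1 * (lin (l 4)).1 - (lin (l 2)).1 * (lin (l 3)).1 ∈ J)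
    (hq1 : q1 A₃ A₂ A₁ (fun i => (lin (l i)).1) ∈ J) (hq2 : q2 A₃ A₂ A₁ (fun i => (lin (l i)).1) ∈ J)
    {d : ℕ} {F : MvPolynomial (Fin 5) k} (hF : F.IsHomogeneous d) (h0 : aeval ξ F = 0) : F ∈ J := by
  obtain ⟨e, he⟩ := exists_e hsp
  let θ : MvPolynomial (Fin 5) k →ₐ[k] MvPolynomial (Fin 5) k := aeval fun j => (lin (e j)).1
  let θ' : MvPolynomial (Fin 5) k →ₐ[k] MvPolynomial (Fin 5) k := aeval fun i => (lin (l i)).1
  have hθX : ∀ j, θ (X j) = (lin (e j)).1 := fun j => aeval_X _ _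
  have hθX' : ∀ j, θ' (X j) = (lin (l j)).1 := fun j => aeval_X _ _
  have c1 : ∀ j, θ' (θ (X j)) = X j := by
    intro j
    have e1 : θ' (θ (X j)) = (lin (∑ i, e j i • l i)).1 := by
      rw [hθX, lin_sum, aeval_lin]
      exact Finset.sum_congr rfl fun i _ => (lin_smul _ _).symm
    have e2 : aeval ξ (lin (∑ i, e j i • l i)).1 = aeval ξ (lin (Pi.single j (1 : k))).1 := by
      rw [lin_sum, map_sum, lin_single, aeval_X, ← he j]
      refine Finset.sum_congr rfl fun i _ => ?_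
      rw [lin_smul, map_smul, hl]
    rw [aeval_lin, aeval_lin] at e2
    have e3 : (∑ i, e j i • l i) = Pi.single j (1 : k) := by
      have := (Fintype.linearIndependent_iff.1 hξ) (fun i => (∑ i, e j i • l i) i - (Pi.single j (1 : k) : Fin 5 → k) i) (by
        simp only [sub_smul, Finset.sum_sub_distrib]
        rw [e2, sub_self])
      funext i
      exact sub_eq_zero.1 (this i)
    rw [e1, e3, lin_single]
  have c1' : ∀ P, θ' (θ P) = P := by
    intro P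
    have : (θ'.comp θ) = AlgHom.id k _ := by
      ext j
      simp only [AlgHom.comp_apply, c1, AlgHom.id_apply]
    exact congr($this P)
  have c2 : ∀ P, aeval (eta τ y w) (θ P) = aeval ξ P := by
    intro P
    have : ((aeval (eta τ y w)).comp θ) = aeval ξ := by
      ext j
      simp only [AlgHom.comp_apply, hθX, aeval_X, aeval_lin, he]
    exact congr($this P)
  have hθF : (θ F).IsHomogeneous d := by
    have := hF.aeval (R := k) (n := 1) (fun j => (lin (e j)).1) (fun j => (lin (e j)).2)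
    rwa [one_mul] at this
  have key := mem_ideal h hnr hd3 hd2 hd1 hne hrel (J.comap θ'.toRingHom) (F := θ F) (d := d) ?_ ?_ ?_ ?_ ?_ hθF ?_
  · have := Ideal.mem_comap.1 key
    change θ' (θ F) ∈ J at this
    rwa [c1'] at this
  · change θ' _ ∈ J
    simpa only [map_sub, map_mul, map_pow, hθX'] using hm1
  · change θ' _ ∈ J
    simpa only [map_sub, map_mul, map_pow, hθX'] using hm2
  · change θ' _ ∈ J
    simpa only [map_sub, map_mul, map_pow, hθX'] using hm3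
  · change θ' _ ∈ J
    simpa only [map_q1, hθX'] using hq1
  · change θ' _ ∈ J
    simpa only [map_q2, hθX'] using hq2
  · rw [c2, h0]

end Change

/-! ## The values of the five quadrics -/

section Values

variable {A₃ A₂ A₁ : Polynomial k} (l : Fin 5 → Fin 5 → k) (m : Fin 5 → Fin 5 → k)

theorem lin_fa : (lin (fa A₃ A₂ l)).1 = fa A₃ A₂ fun i => (lin (l i)).1 := by
  simp only [fa, lin_add, lin_smul]

theorem lin_fb : (lin (fb A₃ A₂ l)).1 = fb A₃ A₂ fun i => (lin (l i)).1 := by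
  simp only [fb, lin_add, lin_smul]

theorem lin_fc : (lin (fc A₁ l)).1 = fc A₁ fun i => (lin (l i)).1 := by
  simp only [fc, lin_add, lin_smul]

/-- the matrix of the curve -/
noncomputable def ME (A₃ A₂ A₁ : Polynomial k) : DataE k := MM l (fa A₃ A₂ l) (fb A₃ A₂ l) (fc A₁ l) m

theorem ME_q1 : (qE (ME l m A₃ A₂ A₁) 1).1 = q1 A₃ A₂ A₁ fun i => (lin (l i)).1 := by
  rw [ME, q1_val, lin_fa, lin_fb, lin_fc, q1]

theorem ME_q0 : (qE (ME l m A₃ A₂ A₁) 0).1 = q2 A₃ A₂ A₁ fun i => (lin (l i)).1 := by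
  rw [ME, q0_val, lin_fa, lin_fb, lin_fc, q2]

variable {K : Type v} [Field K] [Algebra k K] {ξ : Fin 5 → K} {τ y w : K}

theorem q1_eta (hd3 : A₃.natDegree ≤ 3) (hd2 : A₂.natDegree ≤ 2) (hd1 : A₁.natDegree ≤ 1) :
    q1 A₃ A₂ A₁ (eta τ y w) =
      y ^ 2 * Polynomial.aeval τ A₃ + y * w * Polynomial.aeval τ A₂ + w ^ 2 * Polynomial.aeval τ A₁ := by
  have key : ∀ (n : ℕ) (A : Polynomial k), A.natDegree < n →
      Polynomial.aeval τ A = ∑ i ∈ Finset.range n, A.coeff i • τ ^ i := fun n A hA =>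
    Polynomial.aeval_eq_sum_range' hA τ
  rw [key 4 A₃ (by omega), key 3 A₂ (by omega), key 2 A₁ (by omega)]
  simp only [Finset.sum_range_succ, Finset.sum_range_zero, q1, fa, fb, fc, eta, Algebra.smul_def]
  change (_ * y + _ * (τ * y) + _ * (τ ^ 2 * y) + _ * w + _ * (τ * w)) * y + (_ * (τ ^ 2 * y) + _ * (τ * w)) * (τ * y) +
    (_ * w + _ * (τ * w)) * w = _
  ring

theorem q2_eta (hd3 : A₃.natDegree ≤ 3) (hd2 : A₂.natDegree ≤ 2) (hd1 : A₁.natDegree ≤ 1) :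
    q2 A₃ A₂ A₁ (eta τ y w) =
      τ * (y ^ 2 * Polynomial.aeval τ A₃ + y * w * Polynomial.aeval τ A₂ + w ^ 2 * Polynomial.aeval τ A₁) := by
  rw [← q1_eta hd3 hd2 hd1, q1, q2]
  change _ * (τ * y) + _ * (τ ^ 2 * y) + _ * (τ * w) = τ * (_ * y + _ * (τ * y) + _ * w)
  ring

theorem aeval_ME (hd3 : A₃.natDegree ≤ 3) (hd2 : A₂.natDegree ≤ 2) (hd1 : A₁.natDegree ≤ 1)
    (hrel : y ^ 2 * Polynomial.aeval τ A₃ + y * w * Polynomial.aeval τ A₂ + w ^ 2 * Polynomial.aeval τ A₁ = 0)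
    (hl : ∀ i, aeval ξ (lin (l i)).1 = eta τ y w i) (j : Fin 5) : aeval ξ (qE (ME l m A₃ A₂ A₁) j).1 = 0 := by
  have e0 : aeval ξ (lin (l 0)).1 = y := hl 0
  have e1 : aeval ξ (lin (l 1)).1 = τ * y := hl 1
  have e2 : aeval ξ (lin (l 2)).1 = τ ^ 2 * y := hl 2
  have e3 : aeval ξ (lin (l 3)).1 = w := hl 3
  have e4 : aeval ξ (lin (l 4)).1 = τ * w := hl 4
  fin_cases j
  · change aeval ξ (qE (ME l m A₃ A₂ A₁) 0).1 = 0
    rw [ME_q0, map_q2]
    simp only [hl]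
    rw [q2_eta hd3 hd2 hd1, hrel, mul_zero]
  · change aeval ξ (qE (ME l m A₃ A₂ A₁) 1).1 = 0
    rw [ME_q1, map_q1]
    simp only [hl]
    rw [q1_eta hd3 hd2 hd1, hrel]
  · change aeval ξ (qE (ME l m A₃ A₂ A₁) 2).1 = 0
    rw [ME, q2_val, map_sub, map_mul, map_mul, e1, e2, e3, e4]
    ring
  · change aeval ξ (qE (ME l m A₃ A₂ A₁) 3).1 = 0
    rw [ME, q3_val, map_sub, map_mul, map_mul, e0, e1, e3, e4]
    ring
  · change aeval ξ (qE (ME l m A₃ A₂ A₁) 4).1 = 0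
    rw [ME, q4_val, map_sub, map_mul, map_pow, e0, e1, e2]
    ring

theorem mem_span_qE (hξ : LinearIndependent k ξ)
    (hsp : Submodule.span k (Set.range ξ) = Submodule.span k {y, τ * y, τ ^ 2 * y, w, τ * w})
    (h : Indep (k := k) τ y w) (hnr : NoRel (k := k) τ y w)
    (hd3 : A₃.natDegree ≤ 3) (hd2 : A₂.natDegree ≤ 2) (hd1 : A₁.natDegree ≤ 1)
    (hne : A₃ ≠ 0 ∨ A₂ ≠ 0 ∨ A₁ ≠ 0)
    (hrel : y ^ 2 * Polynomial.aeval τ A₃ + y * w * Polynomial.aeval τ A₂ + w ^ 2 * Polynomial.aeval τ A₁ = 0)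
    (hl : ∀ i, aeval ξ (lin (l i)).1 = eta τ y w i) {d : ℕ} {F : MvPolynomial (Fin 5) k} (hF : F.IsHomogeneous d)
    (h0 : aeval ξ F = 0) : F ∈ Ideal.span (Set.range fun j => (qE (ME l m A₃ A₂ A₁) j).1) := by
  have hmem : ∀ j, (qE (ME l m A₃ A₂ A₁) j).1 ∈ Ideal.span (Set.range fun j => (qE (ME l m A₃ A₂ A₁) j).1) :=
    fun j => Ideal.subset_span ⟨j, rfl⟩
  refine mem_of_aeval hξ hsp h hnr hd3 hd2 hd1 hne hrel hl _ ?_ ?_ ?_ ?_ ?_ hF h0
  · have := neg_mem (hmem 4)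
    rwa [ME, q4_val, neg_sub] at this
  · have := neg_mem (hmem 3)
    rwa [ME, q3_val, neg_sub] at this
  · have := neg_mem (hmem 2)
    rwa [ME, q2_val, neg_sub] at this
  · have := hmem 1
    rwa [ME_q1] at this
  · have := hmem 0
    rwa [ME_q0] at this

end Values

/-- A cubic form in the ideal of five quadrics is a combination of them with linear coefficients. -/
theorem exists_lin_coeff {q : Fin 5 → MvPolynomial (Fin 5) k} (hq : ∀ j, (q j).IsHomogeneous 2)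
    {F : MvPolynomial (Fin 5) k} (hF : F.IsHomogeneous 3) (h : F ∈ Ideal.span (Set.range q)) :
    ∃ t : Fin 5 → Fin 5 → k, F = ∑ j, (lin (t j)).1 * q j := by
  obtain ⟨c, hc⟩ := Ideal.mem_span_range_iff_exists_fun.1 h
  have h1 : ∀ j, ∃ t : Fin 5 → k, (lin t).1 = homogeneousComponent 1 (c j) := fun j => by
    obtain ⟨t, ht⟩ := K113.QuintRed.lin_surjective (k := k)
      ⟨homogeneousComponent 1 (c j), homogeneousComponent_isHomogeneous 1 (c j)⟩
    exact ⟨t, by rw [ht]⟩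
  choose t ht using h1
  refine ⟨t, ?_⟩
  have h2 : homogeneousComponent (1 + 2) F = F := by
    rw [homogeneousComponent_of_mem ((mem_homogeneousSubmodule 3 F).2 hF), if_pos rfl]
  rw [← h2, ← hc, map_sum]
  refine Finset.sum_congr rfl fun j _ => ?_
  rw [K113.QuintAlg.homogeneousComponent_mul k 1 2 (c j) (hq j), ht]

/-- G1b: the Pfaffian matrix of an elliptic normal quintic on a cubic threefold (minimal hypotheses). -/
theorem exists_PP (f : LefPen.Form 4 k 3)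
    (C : Scheme.{u}) (i : C ⟶ Xf f) (hcl : IsClosedImmersion i) (hint : IsIntegral C)
    (K : Type u) [Field K] [Algebra k K] (ξ : Fin 5 → K) (τ y w : K)
    (hK : ∀ (d : ℕ) (F : LefPen.Form 4 k d),
      LefPen.hypIdeal F ≤ (i ≫ emb f).ker ↔ MvPolynomial.aeval ξ F.1 = 0)
    (hξ : LinearIndependent k ξ)
    (hsp : Submodule.span k (Set.range ξ) = Submodule.span k {y, τ * y, τ ^ 2 * y, w, τ * w})
    (h1 : ∀ P R : Polynomial k, Polynomial.aeval τ P * y + Polynomial.aeval τ R * w = 0 → P = 0 ∧ R = 0)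
    (h2 : ∃ A₃ A₂ A₁ : Polynomial k, A₃.natDegree ≤ 3 ∧ A₂.natDegree ≤ 2 ∧ A₁.natDegree ≤ 1 ∧
        (A₃ ≠ 0 ∨ A₂ ≠ 0 ∨ A₁ ≠ 0) ∧
        y ^ 2 * Polynomial.aeval τ A₃ + y * w * Polynomial.aeval τ A₂ + w ^ 2 * Polynomial.aeval τ A₁ = 0)
    (h3 : ∀ B₂ B₁ B₀ : Polynomial k, B₂.natDegree ≤ 2 → B₁.natDegree ≤ 1 → B₀.natDegree ≤ 0 →
        y ^ 2 * Polynomial.aeval τ B₂ + y * w * Polynomial.aeval τ B₁ + w ^ 2 * Polynomial.aeval τ B₀ = 0 →
        B₂ = 0 ∧ B₁ = 0 ∧ B₀ = 0) :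
    ∃ M ∈ PP f.1, (i ≫ emb f).ker = cE M := by
  obtain ⟨A₃, A₂, A₁, hd3, hd2, hd1, hne, hrel⟩ := h2
  have hI : Indep (k := k) τ y w := h1
  have hN : NoRel (k := k) τ y w := h3
  obtain ⟨l, hl⟩ := exists_l hsp
  -- the forms vanishing on `C`
  have hspan : ∀ (m : Fin 5 → Fin 5 → k) {d : ℕ} (F : LefPen.Form 4 k d), LefPen.hypIdeal F ≤ (i ≫ emb f).ker →
      F.1 ∈ Ideal.span (Set.range fun j => (qE (ME l m A₃ A₂ A₁) j).1) := fun m d F hF =>
    mem_span_qE l m hξ hsp hI hN hd3 hd2 hd1 hne hrel hl F.2 ((hK d F).1 hF)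
  have hqE : ∀ (m : Fin 5 → Fin 5 → k) (j : Fin 5), LefPen.hypIdeal (qE (ME l m A₃ A₂ A₁) j) ≤ (i ≫ emb f).ker :=
    fun m j => (hK 2 _).2 (aeval_ME l m hd3 hd2 hd1 hrel hl j)
  -- the equation of the threefold
  have hf1 : LefPen.hypIdeal f ≤ (i ≫ emb f).ker := by
    have h1 : (emb f).ker = LefPen.hypIdeal f := Scheme.IdealSheafData.ker_subschemeι _
    rw [← h1]
    exact Scheme.Hom.le_ker_comp _ _
  obtain ⟨t, ht⟩ := exists_lin_coeff (fun j => (qE (ME l 0 A₃ A₂ A₁) j).2) f.2 (hspan 0 f hf1)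
  let m : Fin 5 → Fin 5 → k := ![t 0, - t 1, t 2, - t 3, t 4]
  have hq : ∀ j, (qE (ME l m A₃ A₂ A₁) j).1 = (qE (ME l 0 A₃ A₂ A₁) j).1 := fun j => qE_indep _ _ _ _ _ _ j
  refine ⟨ME l m A₃ A₂ A₁, ⟨MM_skew _ _ _ _ _, ?_⟩, ?_⟩
  · have e1 : (lin (m 1)).1 = - (lin (t 1)).1 := lin_neg (t 1)
    have e3 : (lin (m 3)).1 = - (lin (t 3)).1 := lin_neg (t 3)
    have e0 : (lin (m 0)).1 = (lin (t 0)).1 := rfl
    have e2 : (lin (m 2)).1 = (lin (t 2)).1 := rfl
    have e4 : (lin (m 4)).1 = (lin (t 4)).1 := rfl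
    have := pf6_val l (fa A₃ A₂ l) (fb A₃ A₂ l) (fc A₁ l) m
    rw [ht, Fin.sum_univ_five, ← hq 0, ← hq 1, ← hq 2, ← hq 3, ← hq 4]
    simp only [ME] at this ⊢
    rw [this, e0, e1, e2, e3, e4]
    ring
  · have : IsClosedImmersion (i ≫ emb f) := inferInstance
    exact ker_eq_ciIdeal (i ≫ emb f) (qE (ME l m A₃ A₂ A₁)) (hqE m) fun d x hx => hspan m x hx

/-- G1b: the Pfaffian matrix of an elliptic normal quintic on a cubic threefold. -/
theorem exists_PP_of_coords [IsAlgClosed k] [CharZero k] (f : LefPen.Form 4 k 3) (_hf : f ≠ 0) [Smooth (ps f)]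
    (C : Scheme.{u}) (p : C ⟶ Spec (CommRingCat.of k)) (i : C ⟶ Xf f) (hcl : IsClosedImmersion i)
    (_hip : i ≫ ps f = p) (hint : IsIntegral C) (_hdim : topologicalKrullDim C = 1)
    (K : Type u) [Field K] [Algebra k K] (ξ : Fin 5 → K) (τ y w : K)
    (hK : ∀ (d : ℕ) (F : LefPen.Form 4 k d),
      LefPen.hypIdeal F ≤ (i ≫ emb f).ker ↔ MvPolynomial.aeval ξ F.1 = 0)
    (hξ : LinearIndependent k ξ)
    (hsp : Submodule.span k (Set.range ξ) = Submodule.span k {y, τ * y, τ ^ 2 * y, w, τ * w})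
    (h1 : ∀ P R : Polynomial k, Polynomial.aeval τ P * y + Polynomial.aeval τ R * w = 0 → P = 0 ∧ R = 0)
    (h2 : ∃ A₃ A₂ A₁ : Polynomial k, A₃.natDegree ≤ 3 ∧ A₂.natDegree ≤ 2 ∧ A₁.natDegree ≤ 1 ∧
        (A₃ ≠ 0 ∨ A₂ ≠ 0 ∨ A₁ ≠ 0) ∧
        y ^ 2 * Polynomial.aeval τ A₃ + y * w * Polynomial.aeval τ A₂ + w ^ 2 * Polynomial.aeval τ A₁ = 0)
    (h3 : ∀ B₂ B₁ B₀ : Polynomial k, B₂.natDegree ≤ 2 → B₁.natDegree ≤ 1 → B₀.natDegree ≤ 0 →
        y ^ 2 * Polynomial.aeval τ B₂ + y * w * Polynomial.aeval τ B₁ + w ^ 2 * Polynomial.aeval τ B₀ = 0 →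
        B₂ = 0 ∧ B₁ = 0 ∧ B₀ = 0) :
    ∃ M ∈ PP f.1, (i ≫ emb f).ker = cE M :=
  exists_PP f C i hcl hint K ξ τ y w hK hξ hsp h1 h2 h3

end K573.PPCoords
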