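import Groth.Agent.Fano.K573.ScrollAlg
import Mathlib.Algebra.Polynomial.Bivariate
import Mathlib.RingTheory.Polynomial.GaussLemma
import Mathlib.Algebra.Polynomial.FieldDivision

/-!
# The ideal of a curve of class `2H - F` on the rational normal scroll `S(2, 1)`

`dvd_of_eval`: Gauss: the polynomials `P(T, U)` vanishing at `(τ, w / y)` are the multiples of the equation of the curve.
`mem_span`: the forms vanishing at `(y, τ y, τ² y, w, τ w)` are in the ideal generated by five quadrics.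
-/

set_option autoImplicit false
universe u v

open Polynomial

namespace K573.EllAlg

variable {k : Type u} [Field k] {K : Type v} [Field K] [Algebra k K] (τ y w : K)

/-- `(y, w)` is independent over `k(τ)`. -/
def Indep : Prop := ∀ P R : Polynomial k, aeval τ P * y + aeval τ R * w = 0 → P = 0 ∧ R = 0

/-- the value of `A₃ + A₂ U + A₁ U²` -/
noncomputable def qv (A₃ A₂ A₁ : Polynomial k) : K := y ^ 2 * aeval τ A₃ + y * w * aeval τ A₂ + w ^ 2 * aeval τ A₁

/-- no relation of smaller degree -/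
def NoRel : Prop := ∀ B₂ B₁ B₀ : Polynomial k, B₂.natDegree ≤ 2 → B₁.natDegree ≤ 1 → B₀.natDegree ≤ 0 →
  y ^ 2 * aeval τ B₂ + y * w * aeval τ B₁ + w ^ 2 * aeval τ B₀ = 0 → B₂ = 0 ∧ B₁ = 0 ∧ B₀ = 0

variable {τ y w}

theorem Indep.y_ne (h : Indep (k := k) τ y w) : y ≠ 0 := by
  intro hy
  have := (h 1 0 (by simp [hy])).1
  exact one_ne_zero this

theorem Indep.inj (h : Indep (k := k) τ y w) {P : Polynomial k} (hP : aeval τ P = 0) : P = 0 :=
  (h P 0 (by simp [hP])).1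

section

variable {A₃ A₂ A₁ : Polynomial k}

/-- the equation in `k[T][U]` -/
noncomputable def eqn (A₃ A₂ A₁ : Polynomial k) : Polynomial (Polynomial k) := C A₃ + C A₂ * X + C A₁ * X ^ 2

theorem coeff_eqn_zero : (eqn A₃ A₂ A₁).coeff 0 = A₃ := by
  simp [eqn]

theorem coeff_eqn_one : (eqn A₃ A₂ A₁).coeff 1 = A₂ := by
  simp [eqn, coeff_C]

theorem coeff_eqn_two : (eqn A₃ A₂ A₁).coeff 2 = A₁ := by
  simp [eqn]

theorem A₁_ne (h : Indep (k := k) τ y w) (hne : A₃ ≠ 0 ∨ A₂ ≠ 0 ∨ A₁ ≠ 0)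
    (hrel : y ^ 2 * aeval τ A₃ + y * w * aeval τ A₂ + w ^ 2 * aeval τ A₁ = 0) : A₁ ≠ 0 := by
  rintro rfl
  have h1 : aeval τ A₃ * y + aeval τ A₂ * w = 0 := by
    apply mul_left_cancel₀ h.y_ne
    rw [map_zero, mul_zero, add_zero] at hrel
    rw [mul_zero, ← hrel]
    ring
  obtain ⟨rfl, rfl⟩ := h _ _ h1
  simp at hne

theorem isPrimitive (h : Indep (k := k) τ y w) (hnr : NoRel (k := k) τ y w)
    (hd3 : A₃.natDegree ≤ 3) (hd2 : A₂.natDegree ≤ 2) (hd1 : A₁.natDegree ≤ 1)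
    (hne : A₃ ≠ 0 ∨ A₂ ≠ 0 ∨ A₁ ≠ 0)
    (hrel : y ^ 2 * aeval τ A₃ + y * w * aeval τ A₂ + w ^ 2 * aeval τ A₁ = 0) : (eqn A₃ A₂ A₁).IsPrimitive := by
  intro r hr
  rw [C_dvd_iff_dvd_coeff] at hr
  obtain ⟨B₃, hB3⟩ := hr 0
  obtain ⟨B₂, hB2⟩ := hr 1
  obtain ⟨B₁, hB1⟩ := hr 2
  rw [coeff_eqn_zero] at hB3
  rw [coeff_eqn_one] at hB2
  rw [coeff_eqn_two] at hB1
  have hr0 : r ≠ 0 := by
    rintro rfl
    simp only [zero_mul] at hB3 hB2 hB1
    simp [hB3, hB2, hB1] at hne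
  by_contra hu
  have hdr : 1 ≤ r.natDegree := by
    by_contra hlt
    have : r.natDegree = 0 := by omega
    obtain ⟨c, rfl⟩ := natDegree_eq_zero.1 this
    exact hu (isUnit_C.2 (IsUnit.mk0 c fun hc => hr0 (by rw [hc, C_0])))
  have hdeg : ∀ {A B : Polynomial k} {n : ℕ}, A = r * B → A.natDegree ≤ n + 1 → B.natDegree ≤ n := by
    rintro A B n rfl hA
    by_cases hB : B = 0
    · simp [hB]
    · rw [natDegree_mul hr0 hB] at hA
      omega
  have hz : aeval τ r * (y ^ 2 * aeval τ B₃ + y * w * aeval τ B₂ + w ^ 2 * aeval τ B₁) = 0 := by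
    rw [hB3, hB2, hB1, map_mul, map_mul, map_mul] at hrel
    rw [← hrel]
    ring
  rcases mul_eq_zero.1 hz with hz | hz
  · exact hr0 (h.inj hz)
  · obtain ⟨rfl, rfl, rfl⟩ := hnr _ _ _ (hdeg hB3 hd3) (hdeg hB2 hd2) (hdeg hB1 hd1) hz
    simp [hB3, hB2, hB1] at hne

/-- **Gauss**. -/
theorem dvd_of_eval (h : Indep (k := k) τ y w) (hnr : NoRel (k := k) τ y w)
    (hd3 : A₃.natDegree ≤ 3) (hd2 : A₂.natDegree ≤ 2) (hd1 : A₁.natDegree ≤ 1)
    (hne : A₃ ≠ 0 ∨ A₂ ≠ 0 ∨ A₁ ≠ 0)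
    (hrel : y ^ 2 * aeval τ A₃ + y * w * aeval τ A₂ + w ^ 2 * aeval τ A₁ = 0) (P : Polynomial (Polynomial k))
    (hP : P.eval₂ (aeval τ : Polynomial k →ₐ[k] K).toRingHom (w / y) = 0) : eqn A₃ A₂ A₁ ∣ P := by
  have hprim := isPrimitive h hnr hd3 hd2 hd1 hne hrel
  have hA1 := A₁_ne h hne hrel
  let F := FractionRing (Polynomial k)
  have hinj : Function.Injective (aeval τ : Polynomial k →ₐ[k] K).toRingHom := by
    rw [injective_iff_map_eq_zero]
    intro a ha
    exact h.inj ha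
  let φ : F →+* K := IsFractionRing.lift hinj
  have hφ : ∀ a : Polynomial k, φ (algebraMap (Polynomial k) F a) = aeval τ a := fun a =>
    IsFractionRing.lift_algebraMap hinj a
  apply IsPrimitive.dvd_of_fraction_map_dvd_fraction_map (K := F) hprim
  set PF := P.map (algebraMap (Polynomial k) F) with hPF
  set GF := (eqn A₃ A₂ A₁).map (algebraMap (Polynomial k) F) with hGF
  have hmapev : ∀ Q : Polynomial (Polynomial k), (Q.map (algebraMap (Polynomial k) F)).eval₂ φ (w / y) =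
      Q.eval₂ (aeval τ : Polynomial k →ₐ[k] K).toRingHom (w / y) := by
    intro Q
    rw [eval₂_map]
    congr 1
    exact RingHom.ext hφ
  have hGev : GF.eval₂ φ (w / y) = 0 := by
    rw [hGF, hmapev, eqn]
    simp only [eval₂_add, eval₂_mul, eval₂_C, eval₂_X, eval₂_X_pow]
    have hy := h.y_ne
    change aeval τ A₃ + aeval τ A₂ * (w / y) + aeval τ A₁ * (w / y) ^ 2 = 0
    field_simp
    linear_combination hrel
  have hdegG : GF.natDegree ≤ 2 := by
    rw [hGF]
    refine (natDegree_map_le).trans ?_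
    rw [eqn]
    compute_degree
  have hcoef : GF.coeff 2 ≠ 0 := by
    rw [hGF, coeff_map, coeff_eqn_two]
    intro h0
    exact hA1 (IsFractionRing.injective (Polynomial k) F (by rw [h0, map_zero]))
  have hG0 : GF ≠ 0 := by
    intro h0
    rw [h0, coeff_zero] at hcoef
    exact hcoef rfl
  set R := PF % GF with hR
  have hRdeg : R.natDegree ≤ 1 := by
    by_cases hR0 : R = 0
    · rw [hR0]; simp
    have := degree_mod_lt PF hG0
    have h2 := (natDegree_lt_natDegree_iff hR0).2 this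
    omega
  have hRev : R.eval₂ φ (w / y) = 0 := by
    have h1 : R = PF - GF * (PF / GF) := by
      rw [hR, eq_sub_iff_add_eq, add_comm]
      exact EuclideanDomain.div_add_mod PF GF
    rw [h1, eval₂_sub, eval₂_mul, hGev, zero_mul, sub_zero, hPF, hmapev, hP]
  have hRsum := eq_X_add_C_of_natDegree_le_one hRdeg
  have hR0 : R = 0 := by
    obtain ⟨a1, b1, hb1, e1⟩ := IsFractionRing.div_surjective (A := Polynomial k) (R.coeff 1)
    obtain ⟨a0, b0, hb0, e0⟩ := IsFractionRing.div_surjective (A := Polynomial k) (R.coeff 0)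
    have hb1' : b1 ≠ 0 := nonZeroDivisors.ne_zero hb1
    have hb0' : b0 ≠ 0 := nonZeroDivisors.ne_zero hb0
    have hτ1 : aeval τ b1 ≠ 0 := fun h0 => hb1' (h.inj h0)
    have hτ0 : aeval τ b0 ≠ 0 := fun h0 => hb0' (h.inj h0)
    have hy := h.y_ne
    rw [hRsum, eval₂_add, eval₂_mul, eval₂_C, eval₂_C, eval₂_X, ← e1, ← e0, map_div₀, map_div₀, hφ, hφ, hφ, hφ] at hRev
    have h2 : aeval τ (a0 * b1) * y + aeval τ (a1 * b0) * w = 0 := by
      rw [map_mul, map_mul]
      field_simp at hRev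
      linear_combination hRev
    obtain ⟨h3, h4⟩ := h _ _ h2
    have h5 : a0 = 0 := (mul_eq_zero.1 h3).resolve_right hb1'
    have h6 : a1 = 0 := (mul_eq_zero.1 h4).resolve_right hb0'
    rw [hRsum, ← e1, ← e0, h5, h6]
    simp
  exact (EuclideanDomain.mod_eq_zero).1 hR0

end

end K573.EllAlg
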