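import Groth.Agent.STCI.K945.Surf
import Groth.Agent.Fano.K113.QuintKer
import Groth.Agent.Surf.K33.Quadrics

/-!
# The ideal sheaf of an integral subscheme of projective space from its forms (family version)

`ker_eq_ciIdeal`: if the forms vanishing on `C` are in the ideal generated by the forms `G_j`, which vanish on `C`, the
ideal sheaf of `C` is the sum of the ideal sheaves of the hypersurfaces `V_+(G_j)`.
-/

set_option autoImplicit false
universe u

open CategoryTheory AlgebraicGeometry Limits TopologicalSpace Opposite MvPolynomial Topology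

namespace K573.KerFam

open LefPen Groth.Agent.Lefpen.H705.ChartPoly Groth.Agent.Lefpen.H705.HypIdeal Groth.Agent.Fdesc.LocGen
open Groth.Agent.Lefpen.H718.Chart
open K945.Surf K113.QuintKer

variable {k : Type u} [Field k] {n : ℕ} {C : Scheme.{u}} (i : C ⟶ CohB1.ProjSpace (n + 1) k)
  [IsIntegral C]

theorem mem_iff {d : ℕ} (F : Form (n + 1) k d) : F.1 ∈ idl i ↔ hypIdeal F ≤ i.ker := by
  rw [← K33.Quadrics.comap_eq_bot_iff, ← Scheme.IdealSheafData.map_bot,
    Scheme.IdealSheafData.le_map_iff_comap_le, le_bot_iff]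

variable [IsClosedImmersion i] {r : ℕ} {a : Fin r → ℕ} (G : ∀ j, Form (n + 1) k (a j)) (hG : ∀ j, hypIdeal (G j) ≤ i.ker)
  (h : ∀ (m : ℕ) (x : Form (n + 1) k m), hypIdeal x ≤ i.ker → x.1 ∈ Ideal.span (Set.range fun j => (G j).1))

include hG h

theorem mem_ker' (j : Fin (n + 1 + 1)) (x : Γ(CohB1.ProjSpace (n + 1) k, chart (n + 1) k j)) :
    (i.app (chart (n + 1) k j)).hom x = 0 ↔ x ∈ Ideal.span (Set.range fun l => dehom (G l) j) := by
  constructor
  · intro hx
    obtain ⟨p, hp⟩ := (polyToChart_bijective j).2 x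
    obtain ⟨d, P, hP, hp'⟩ := Groth.Agent.Lefpen.H397.ConePt.exists_dehom (k := k) j p
    have h0 : x = dehom (⟨P, hP⟩ : Form (n + 1) k d) j := by
      rw [dehom_eq, hp', hp]
    rw [h0, mem_ker_iff] at hx
    have hhom : (P * X j).IsHomogeneous (d + 1) := MvPolynomial.IsHomogeneous.mul hP (isHomogeneous_X k j)
    have hz : P * X j ∈ idl i := by
      by_cases hj : i (genericPoint C) ∈ chart (n + 1) k j
      · exact (idl i).mul_mem_right _ (hx hj)
      · have h2 : X j ∈ idl i := by
          by_contra h3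
          exact hj h3
        exact (idl i).mul_mem_left _ h2
    have h6 := Ideal.mem_map_of_mem (toChart j) (h (d + 1) ⟨P * X j, hhom⟩ ((mem_iff i _).1 hz))
    rw [Ideal.map_span, ← Set.range_comp, map_mul, toChart_X, mul_one] at h6
    rw [h0, ← toChart_form j (⟨P, hP⟩ : Form (n + 1) k d)]
    convert h6 using 3
    funext l
    exact (toChart_form j (G l)).symm
  · intro hx
    have h2 : Ideal.span (Set.range fun l => dehom (G l) j) ≤ RingHom.ker (i.app (chart (n + 1) k j)).hom := by
      rw [Ideal.span_le]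
      rintro _ ⟨l, rfl⟩
      exact app_eq_zero i j _ ((mem_iff i _).2 (hG l))
    exact h2 hx

theorem ker_eq_ciIdeal : i.ker = ciIdeal G := by
  refine Scheme.IdealSheafData.ext_of_iSup_eq_top
    (fun j : Fin (n + 1 + 1) => ⟨chart (n + 1) k j, isAffineOpen_chart j⟩) iSup_chart fun j => ?_
  rw [Scheme.Hom.ker_apply, ciIdeal_ideal_of_le G j _ le_rfl]
  have h1 : ∀ {d : ℕ} (H : Form (n + 1) k d), ores (le_refl (chart (n + 1) k j)) (dehom H j) = dehom H j := by
    intro d H
    simp [ores]
  refine Ideal.ext fun x => ?_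
  rw [RingHom.mem_ker]
  refine (mem_ker' i G hG h j x).trans ?_
  have h2 : (fun l => ores (le_refl (chart (n + 1) k j)) (dehom (G l) j)) = fun l => dehom (G l) j :=
    funext fun l => h1 (G l)
  change _ ↔ x ∈ Ideal.span (Set.range fun l => ores (le_refl (chart (n + 1) k j)) (dehom (G l) j))
  rw [h2]

end K573.KerFam
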