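import Mathlib.RingTheory.MvPolynomial.Homogeneous
import Mathlib.Algebra.MvPolynomial.NoZeroDivisors
import Mathlib.Tactic.LinearCombination
import Mathlib.LinearAlgebra.Basis.Defs

/-!
# Forms on the rational normal scroll `S(2, 1)`

The monomial map `k[x₀, …, x₄] → k[T, U]`, `(x₀, …, x₄) ↦ (1, T, T², U, TU)` (affine part of the scroll): a form in its
kernel vanishes at every point `x` (with values in any algebra) satisfying
`x₀x₂ = x₁²`, `x₀x₄ = x₁x₃`, `x₁x₄ = x₂x₃`.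
-/

set_option autoImplicit false
universe u v

open MvPolynomial

namespace K573.ScrollAlg

/-! ## Monomials modulo the equations of the scroll -/

section Mono

variable {R : Type v} [CommRing R] (x : Fin 5 → R) (h1 : x 0 * x 2 = x 1 ^ 2) (h2 : x 0 * x 4 = x 1 * x 3)
  (h3 : x 1 * x 4 = x 2 * x 3)

/-- the monomial with exponents `a` -/
def mo (a0 a1 a2 a3 a4 : ℕ) : R := x 0 ^ a0 * x 1 ^ a1 * x 2 ^ a2 * x 3 ^ a3 * x 4 ^ a4

include h1 h2 h3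

theorem exists_normal (n : ℕ) : ∀ a0 a1 a2 a3 a4 : ℕ, 2 * a4 + a1 = n → ∃ b0 b1 b2 b3 b4 : ℕ, b1 ≤ 1 ∧
    (b4 = 0 ∨ (b0 = 0 ∧ b1 = 0)) ∧ a0 + a1 + a2 + a3 + a4 = b0 + b1 + b2 + b3 + b4 ∧
    a1 + 2 * a2 + a4 = b1 + 2 * b2 + b4 ∧ a3 + a4 = b3 + b4 ∧ mo x a0 a1 a2 a3 a4 = mo x b0 b1 b2 b3 b4 := by
  induction n using Nat.strong_induction_on with
  | _ n ih =>
    intro a0 a1 a2 a3 a4 hn
    by_cases c1 : 2 ≤ a1
    · obtain ⟨a1, rfl⟩ := Nat.exists_eq_add_of_le' c1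
      obtain ⟨b0, b1, b2, b3, b4, e1, e2, e3, e4, e5, e6⟩ := ih (2 * a4 + a1) (by omega) (a0 + 1) a1 (a2 + 1) a3 a4 rfl
      refine ⟨b0, b1, b2, b3, b4, e1, e2, by omega, by omega, e5, ?_⟩
      rw [← e6]
      simp only [mo]
      linear_combination (- x 0 ^ a0 * x 1 ^ a1 * x 2 ^ a2 * x 3 ^ a3 * x 4 ^ a4) * h1
    by_cases c2 : 1 ≤ a0 ∧ 1 ≤ a4
    · obtain ⟨c2, c3⟩ := c2
      obtain ⟨a0, rfl⟩ := Nat.exists_eq_add_of_le' c2
      obtain ⟨a4, rfl⟩ := Nat.exists_eq_add_of_le' c3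
      obtain ⟨b0, b1, b2, b3, b4, e1, e2, e3, e4, e5, e6⟩ := ih (2 * a4 + (a1 + 1)) (by omega) a0 (a1 + 1) a2
        (a3 + 1) a4 rfl
      refine ⟨b0, b1, b2, b3, b4, e1, e2, by omega, by omega, by omega, ?_⟩
      rw [← e6]
      simp only [mo]
      linear_combination (x 0 ^ a0 * x 1 ^ a1 * x 2 ^ a2 * x 3 ^ a3 * x 4 ^ a4) * h2
    by_cases c3 : 1 ≤ a1 ∧ 1 ≤ a4
    · obtain ⟨c3, c4⟩ := c3
      obtain ⟨a1, rfl⟩ := Nat.exists_eq_add_of_le' c3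
      obtain ⟨a4, rfl⟩ := Nat.exists_eq_add_of_le' c4
      obtain ⟨b0, b1, b2, b3, b4, e1, e2, e3, e4, e5, e6⟩ := ih (2 * a4 + a1) (by omega) a0 a1 (a2 + 1)
        (a3 + 1) a4 rfl
      refine ⟨b0, b1, b2, b3, b4, e1, e2, by omega, by omega, by omega, ?_⟩
      rw [← e6]
      simp only [mo]
      linear_combination (x 0 ^ a0 * x 1 ^ a1 * x 2 ^ a2 * x 3 ^ a3 * x 4 ^ a4) * h3
    · exact ⟨a0, a1, a2, a3, a4, by omega, by omega, rfl, rfl, rfl, rfl⟩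

theorem mo_eq (a0 a1 a2 a3 a4 b0 b1 b2 b3 b4 : ℕ) (e1 : a0 + a1 + a2 + a3 + a4 = b0 + b1 + b2 + b3 + b4)
    (e2 : a1 + 2 * a2 + a4 = b1 + 2 * b2 + b4) (e3 : a3 + a4 = b3 + b4) :
    mo x a0 a1 a2 a3 a4 = mo x b0 b1 b2 b3 b4 := by
  obtain ⟨c0, c1, c2, c3, c4, f1, f2, f3, f4, f5, f6⟩ := exists_normal x h1 h2 h3 _ a0 a1 a2 a3 a4 rfl
  obtain ⟨d0, d1, d2, d3, d4, g1, g2, g3, g4, g5, g6⟩ := exists_normal x h1 h2 h3 _ b0 b1 b2 b3 b4 rfl
  have k1 : c4 = d4 := by omega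
  have k2 : c3 = d3 := by omega
  have k3 : c2 = d2 := by omega
  have k4 : c1 = d1 := by omega
  have k5 : c0 = d0 := by omega
  rw [f6, g6, k1, k2, k3, k4, k5]

end Mono

/-! ## The monomial map -/

/-- the exponent `T^e U^j` -/
noncomputable def mm (e j : ℕ) : Fin 2 →₀ ℕ := Finsupp.single 0 e + Finsupp.single 1 j

theorem mm_zero (e j : ℕ) : mm e j 0 = e := by simp [mm]

theorem mm_one (e j : ℕ) : mm e j 1 = j := by simp [mm]

theorem mm_inj {e j e' j' : ℕ} (h : mm e j = mm e' j') : e = e' ∧ j = j' := by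
  have h0 := DFunLike.congr_fun h 0
  have h1 := DFunLike.congr_fun h 1
  rw [mm_zero, mm_zero] at h0
  rw [mm_one, mm_one] at h1
  exact ⟨h0, h1⟩

theorem eq_mm (w : Fin 2 →₀ ℕ) : w = mm (w 0) (w 1) := by
  ext i
  fin_cases i
  · exact (mm_zero _ _).symm
  · exact (mm_one _ _).symm

theorem mm_add (e j e' j' : ℕ) : mm e j + mm e' j' = mm (e + e') (j + j') := by
  ext i
  fin_cases i
  · simp [mm]
  · simp [mm]

variable (k : Type u) [Field k]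

/-- `T^e U^j` -/
noncomputable def tu (e j : ℕ) : MvPolynomial (Fin 2) k := monomial (mm e j) 1

theorem tu_mul (e j e' j' : ℕ) : tu k e j * tu k e' j' = tu k (e + e') (j + j') := by
  rw [tu, tu, tu, monomial_mul, mm_add, one_mul]

theorem tu_zero : tu k 0 0 = 1 := by
  simp [tu, mm]

theorem tu_pow (e j n : ℕ) : tu k e j ^ n = tu k (n * e) (n * j) := by
  induction n with
  | zero => simp [tu_zero]
  | succ n ih =>
    rw [pow_succ, ih, tu_mul]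
    congr 1 <;> ring

/-- The point `(1, T, T², U, TU)`. -/
noncomputable def pt : Fin 5 → MvPolynomial (Fin 2) k := ![tu k 0 0, tu k 1 0, tu k 2 0, tu k 0 1, tu k 1 1]

theorem mo_pt (a0 a1 a2 a3 a4 : ℕ) : mo (pt k) a0 a1 a2 a3 a4 = tu k (a1 + 2 * a2 + a4) (a3 + a4) := by
  have e0 : pt k 0 = tu k 0 0 := rfl
  have e1 : pt k 1 = tu k 1 0 := rfl
  have e2 : pt k 2 = tu k 2 0 := rfl
  have e3 : pt k 3 = tu k 0 1 := rfl
  have e4 : pt k 4 = tu k 1 1 := rfl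
  rw [mo, e0, e1, e2, e3, e4, tu_pow, tu_pow, tu_pow, tu_pow, tu_pow, tu_mul, tu_mul, tu_mul, tu_mul]
  congr 1 <;> ring

variable {k}

theorem aeval_monomial' {R : Type v} [CommRing R] [Algebra k R] (x : Fin 5 → R) (a : Fin 5 →₀ ℕ) (r : k) :
    aeval x (monomial a r) = r • mo x (a 0) (a 1) (a 2) (a 3) (a 4) := by
  rw [aeval_monomial, Finsupp.prod_fintype _ _ (fun i => pow_zero _), Fin.prod_univ_five, Algebra.smul_def, mo]

theorem degree_eq {d : ℕ} {D : MvPolynomial (Fin 5) k} (hD : D.IsHomogeneous d) {a : Fin 5 →₀ ℕ}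
    (ha : a ∈ D.support) : a 0 + a 1 + a 2 + a 3 + a 4 = d := by
  have h := hD (mem_support_iff.1 ha)
  rw [Finsupp.weight_apply, Finsupp.sum_fintype _ _ (by simp), Fin.sum_univ_five] at h
  simpa using h

/-- **Kernel of the monomial map.** -/
theorem aeval_eq_zero {R : Type v} [CommRing R] [Algebra k R] (x : Fin 5 → R) (h1 : x 0 * x 2 = x 1 ^ 2)
    (h2 : x 0 * x 4 = x 1 * x 3) (h3 : x 1 * x 4 = x 2 * x 3) {d : ℕ} {D : MvPolynomial (Fin 5) k}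
    (hD : D.IsHomogeneous d) (h0 : aeval (pt k) D = 0) : aeval x D = 0 := by
  classical
  let c : (Fin 2 →₀ ℕ) → R := fun w =>
    if h : ∃ a : Fin 5 → ℕ, a 0 + a 1 + a 2 + a 3 + a 4 = d ∧ mm (a 1 + 2 * a 2 + a 4) (a 3 + a 4) = w then
      mo x (h.choose 0) (h.choose 1) (h.choose 2) (h.choose 3) (h.choose 4) else 0
  have hc : ∀ a : Fin 5 → ℕ, a 0 + a 1 + a 2 + a 3 + a 4 = d →
      c (mm (a 1 + 2 * a 2 + a 4) (a 3 + a 4)) = mo x (a 0) (a 1) (a 2) (a 3) (a 4) := by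
    intro a ha
    have h : ∃ a' : Fin 5 → ℕ, a' 0 + a' 1 + a' 2 + a' 3 + a' 4 = d ∧
      mm (a' 1 + 2 * a' 2 + a' 4) (a' 3 + a' 4) = mm (a 1 + 2 * a 2 + a 4) (a 3 + a 4) := ⟨a, ha, rfl⟩
    simp only [c]
    rw [dif_pos h]
    have hs := h.choose_spec
    obtain ⟨g1, g2⟩ := mm_inj hs.2
    exact mo_eq x h1 h2 h3 _ _ _ _ _ _ _ _ _ _ (hs.1.trans ha.symm) g1 g2
  let L : MvPolynomial (Fin 2) k →ₗ[k] R := (basisMonomials (Fin 2) k).constr k c
  have hL : ∀ w : Fin 2 →₀ ℕ, L (monomial w 1) = c w := fun w => by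
    have := (basisMonomials (Fin 2) k).constr_basis k c w
    rwa [coe_basisMonomials] at this
  have key : L (aeval (pt k) D) = aeval x D := by
    conv_lhs => rw [D.as_sum]
    conv_rhs => rw [D.as_sum]
    rw [map_sum, map_sum, map_sum]
    refine Finset.sum_congr rfl fun a ha => ?_
    rw [aeval_monomial', aeval_monomial', map_smul, mo_pt, tu, hL, hc (fun i => a i) (degree_eq hD ha)]
  rw [← key, h0, map_zero]

end K573.ScrollAlg
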